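import Mathlib.FieldTheory.RatFunc.Luroth
import Mathlib.FieldTheory.Minpoly.IsIntegrallyClosed
import Mathlib.RingTheory.Localization.FractionRing
import Mathlib.RingTheory.IntegralClosure.IntegrallyClosed
import Mathlib.Tactic.LinearCombination

/-!
# Lüroth's theorem for polynomials

A normal subalgebra of `K[X]` over which `K[X]` is integral is a polynomial algebra.
-/

set_option autoImplicit false
set_option linter.style.haveILetI false

universe u

open Polynomial IntermediateField algebraAdjoinAdjoin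

namespace Groth.Agent.PolyLuroth6

variable {K : Type u} [Field K]

theorem mem_adjoin_of_mem_field {g z : K[X]} (hg : 0 < g.natDegree)
    (hz : algebraMap K[X] (RatFunc K) z ∈ K⟮algebraMap K[X] (RatFunc K) g⟯) :
    z ∈ Algebra.adjoin K ({g} : Set K[X]) := by
  classical
  set a := algebraMap K[X] (RatFunc K) g with ha
  obtain ⟨r, s, hrs⟩ := (IntermediateField.mem_adjoin_simple_iff _ _).1 hz
  by_cases h0 : aeval a s = 0
  · rw [h0, div_zero] at hrs
    rw [RatFunc.algebraMap_injective K (hrs.trans (map_zero _).symm)]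
    exact zero_mem _
  have hs0 : s ≠ 0 := fun h => h0 (by rw [h, map_zero])
  obtain ⟨d, r', s', hcop, hr, hs⟩ : ∃ d r' s', IsCoprime r' s' ∧ r = d * r' ∧ s = d * s' := by
    obtain ⟨r', hr⟩ := EuclideanDomain.gcd_dvd_left r s
    obtain ⟨s', hs⟩ := EuclideanDomain.gcd_dvd_right r s
    refine ⟨EuclideanDomain.gcd r s, r', s', ?_, hr, hs⟩
    have hd : EuclideanDomain.gcd r s ≠ 0 := fun h => hs0 (EuclideanDomain.gcd_eq_zero_iff.1 h).2
    refine ⟨EuclideanDomain.gcdA r s, EuclideanDomain.gcdB r s, mul_left_cancel₀ hd ?_⟩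
    conv_rhs => rw [mul_one, EuclideanDomain.gcd_eq_gcd_ab r s]
    linear_combination -(EuclideanDomain.gcdA r s) * hr - EuclideanDomain.gcdB r s * hs
  have h1 : z * aeval g s' = aeval g r' := by
    apply RatFunc.algebraMap_injective K
    rw [map_mul, ← aeval_algebraMap_apply (RatFunc K) g s', ← aeval_algebraMap_apply (RatFunc K) g r', hrs,
      div_mul_eq_mul_div, div_eq_iff h0, hr, hs, map_mul, map_mul]
    ring
  obtain ⟨A, B, hAB⟩ := hcop
  have hu : IsUnit (aeval g s') := by
    refine isUnit_of_dvd_one ⟨z * aeval g A + aeval g B, ?_⟩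
    have h2 := congrArg (aeval g) hAB
    rw [map_add, map_mul, map_mul, map_one, ← h1] at h2
    linear_combination -h2
  have hdeg : s'.natDegree = 0 := by
    have := natDegree_eq_zero_of_isUnit hu
    rw [show aeval g s' = s'.comp g by rw [aeval_def, comp]; rfl, natDegree_comp] at this
    exact (Nat.mul_eq_zero.1 this).resolve_right hg.ne'
  obtain ⟨c, hc⟩ : ∃ c, s' = C c := ⟨_, eq_C_of_natDegree_eq_zero hdeg⟩
  rw [hc, aeval_C] at h1
  have hc0 : c ≠ 0 := by
    rintro rfl
    rw [hc, aeval_C, map_zero] at hu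
    exact not_isUnit_zero hu
  have : z = c⁻¹ • aeval g r' := by
    rw [← h1, Algebra.smul_def, mul_left_comm, ← map_mul, inv_mul_cancel₀ hc0, map_one, mul_one]
  rw [this]
  exact Subalgebra.smul_mem _ (aeval_mem_adjoin_singleton K g) _

/-- A normal subalgebra of `K[X]` over which `K[X]` is integral is generated by one polynomial. -/
theorem exists_generator {A : Type u} [CommRing A] [IsDomain A] [IsIntegrallyClosed A] [Algebra K A]
    (φ : A →ₐ[K] K[X]) (hinj : Function.Injective φ) (hint : φ.toRingHom.IsIntegral) :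
    ∃ g : K[X], 0 < g.natDegree ∧ g.coeff 0 = 0 ∧ φ.range = Algebra.adjoin K {g} := by
  letI : Algebra A K[X] := φ.toRingHom.toAlgebra
  haveI : Module.IsTorsionFree A K[X] := by
    haveI : FaithfulSMul A K[X] := (faithfulSMul_iff_algebraMap_injective A K[X]).2 hinj
    infer_instance
  haveI : Algebra.IsIntegral A K[X] := ⟨hint⟩
  let ψ : A →+* RatFunc K := (algebraMap K[X] (RatFunc K)).comp φ.toRingHom
  have hψ : Function.Injective ψ := (RatFunc.algebraMap_injective K).comp hinj
  have hψA : ∀ a, algebraMap A (RatFunc K) a = ψ a := fun a => by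
    rw [IsScalarTower.algebraMap_apply A K[X] (RatFunc K)]; rfl
  let F := FractionRing A
  let ι : F →+* RatFunc K := IsFractionRing.lift hψ
  have hιA : ∀ a, ι (algebraMap A F a) = ψ a := fun a => IsFractionRing.lift_algebraMap hψ a
  letI : Algebra F (RatFunc K) := ι.toAlgebra
  haveI : IsScalarTower A F (RatFunc K) :=
    IsScalarTower.of_algebraMap_eq' (RingHom.ext fun a => (hψA a).trans (hιA a).symm)
  have hKF : ∀ c, ι (algebraMap K F c) = algebraMap K (RatFunc K) c := fun c => by
    rw [IsScalarTower.algebraMap_apply K A F, hιA]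
    show algebraMap K[X] (RatFunc K) (φ (algebraMap K A c)) = _
    rw [φ.commutes, ← IsScalarTower.algebraMap_apply]
  set P := minpoly A (X : K[X]) with hPdef
  have hP : minpoly F (algebraMap K[X] (RatFunc K) X) = P.map (algebraMap A F) :=
    minpoly.isIntegrallyClosed_eq_field_fractions F (RatFunc K) (Algebra.IsIntegral.isIntegral X)
  have hPm : P.Monic := minpoly.monic (Algebra.IsIntegral.isIntegral X)
  -- the intermediate field
  let ιa : F →ₐ[K] RatFunc K := { ι with commutes' := hKF }
  set E := ιa.fieldRange with hE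
  have hEne : E ≠ ⊥ := by
    intro h
    have hXalg : IsAlgebraic F (RatFunc.X : RatFunc K) := by
      refine ⟨P.map (algebraMap A F), (hPm.map _).ne_zero, ?_⟩
      rw [← RatFunc.algebraMap_X, ← hP, minpoly.aeval]
    refine RatFunc.transcendental_X (K := K) ?_
    obtain ⟨p, hp0, hp⟩ := hXalg
    have hcoef : ∀ x : F, ∃ c, algebraMap K F c = x := fun x => by
      have hx : ιa x ∈ (⊥ : IntermediateField K (RatFunc K)) := h ▸ ⟨x, rfl⟩
      obtain ⟨c, hc⟩ := IntermediateField.mem_bot.1 hx
      exact ⟨c, ι.injective ((hKF c).trans hc)⟩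
    obtain ⟨q, hq⟩ := Polynomial.map_surjective (algebraMap K F) (fun x => hcoef x) p
    refine ⟨q, fun hq0 => hp0 (by rw [← hq, hq0, Polynomial.map_zero]), ?_⟩
    rw [← hp, ← hq, aeval_def, aeval_def, eval₂_map]
    congr 1
    exact RingHom.ext fun c => (hKF c).symm
  set f := RatFunc.Luroth.generator E with hfdef
  have hEf : E = K⟮f⟯ := RatFunc.Luroth.eq_adjoin_generator
  have hfC : ¬ ∃ c, f = RatFunc.C c := fun ⟨c, hc⟩ =>
    RatFunc.Luroth.generator_spec hEne ⟨c, by rw [RatFunc.algebraMap_eq_C]; exact hc.symm⟩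
  obtain ⟨f₀, hf₀⟩ : ∃ f₀ : F, ι f₀ = f := by
    have : f ∈ E := RatFunc.Luroth.generator_mem
    exact this
  -- minimal polynomial over `F`
  let Q : F[X] := f.num.map (algebraMap K F) - C f₀ * f.denom.map (algebraMap K F)
  have hQirr : Irreducible Q := by
    let e : F ≃+* K⟮f⟯ :=
      ((AlgEquiv.ofInjectiveField ιa).trans (IntermediateField.equivOfEq hEf)).toRingEquiv
    have he : ∀ x, (e x : RatFunc K) = ι x := fun x => rfl
    have hQ : Q.mapEquiv e = f.minpolyX K⟮f⟯ := by
      have hcomp : e.toRingHom.comp (algebraMap K F) = algebraMap K K⟮f⟯ :=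
        RingHom.ext fun c => Subtype.ext (hKF c)
      have he0 : e.toRingHom f₀ = algebraMap (Algebra.adjoin K {f}) K⟮f⟯ ⟨f, Algebra.self_mem_adjoin_singleton K f⟩ :=
        Subtype.ext hf₀
      show (f.num.map (algebraMap K F) - C f₀ * f.denom.map (algebraMap K F)).map e.toRingHom = _
      rw [Polynomial.map_sub, Polynomial.map_mul, Polynomial.map_C, Polynomial.map_map, Polynomial.map_map, hcomp, he0]
    exact (MulEquiv.irreducible_iff (Polynomial.mapEquiv e)).1
      (hQ ▸ f.irreducible_minpolyX hfC)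
  have hQroot : aeval (RatFunc.X : RatFunc K) Q = 0 := by
    have h1 : ∀ p : K[X], aeval (RatFunc.X : RatFunc K) (p.map (algebraMap K F)) = algebraMap K[X] (RatFunc K) p := by
      intro p
      rw [aeval_def, eval₂_map, show (algebraMap F (RatFunc K)).comp (algebraMap K F) = algebraMap K (RatFunc K) from
        RingHom.ext hKF, ← aeval_def, RatFunc.aeval_X_left_eq_algebraMap]
    simp only [Q, map_sub, map_mul, h1, aeval_C]
    rw [show algebraMap F (RatFunc K) f₀ = f from hf₀, sub_eq_zero]
    nth_rw 2 [← RatFunc.num_div_denom f]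
    rw [div_mul_cancel₀ _ (RatFunc.algebraMap_ne_zero f.denom_ne_zero)]
  have hPQ : P.map (algebraMap A F) = Q * C Q.leadingCoeff⁻¹ := by
    rw [← hP, RatFunc.algebraMap_X]
    exact (minpoly.eq_of_irreducible hQirr hQroot).symm
  set c := ι Q.leadingCoeff⁻¹ with hc
  have hcoeff : ∀ j, algebraMap K[X] (RatFunc K) (φ (P.coeff j)) =
      (algebraMap K (RatFunc K) (f.num.coeff j) - f * algebraMap K (RatFunc K) (f.denom.coeff j)) * c := by
    intro j
    show ψ (P.coeff j) = _
    rw [← hιA, ← coeff_map, hPQ, coeff_mul_C, map_mul]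
    congr 1
    simp only [Q, coeff_sub, coeff_C_mul, coeff_map, map_sub, map_mul, hKF, hf₀]
  obtain ⟨j, hj⟩ : ∃ j, 0 < (φ (P.coeff j)).natDegree := by
    by_contra hh
    push Not at hh
    obtain ⟨p, hp⟩ : ∃ p : K[X], p.map (algebraMap K A) = P := by
      refine (Polynomial.mem_lifts _).1 ((lifts_iff_coeff_lifts _).2 fun j => ?_)
      refine ⟨(φ (P.coeff j)).coeff 0, hinj ?_⟩
      rw [φ.commutes]
      exact (eq_C_of_natDegree_le_zero (hh j)).symm
    have h0 : aeval (X : K[X]) P = 0 := minpoly.aeval A X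
    rw [← hp, aeval_def, eval₂_map, show (algebraMap A K[X]).comp (algebraMap K A) = algebraMap K K[X] from
      RingHom.ext φ.commutes, ← aeval_def, aeval_X_left_apply] at h0
    rw [h0, Polynomial.map_zero] at hp
    exact hPm.ne_zero hp.symm
  set a := φ (P.coeff j) with ha
  set m := P.natDegree
  have h1 := hcoeff m
  rw [show P.coeff m = 1 from hPm.coeff_natDegree, map_one, map_one] at h1
  have h2 := hcoeff j
  rw [← ha] at h2
  have hfmem : f ∈ K⟮algebraMap K[X] (RatFunc K) a⟯ := by
    set a' := algebraMap K[X] (RatFunc K) a with ha'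
    set pj := algebraMap K (RatFunc K) (f.num.coeff j)
    set qj := algebraMap K (RatFunc K) (f.denom.coeff j)
    set pm := algebraMap K (RatFunc K) (f.num.coeff m)
    set qm := algebraMap K (RatFunc K) (f.denom.coeff m)
    have h3 : f * (qj - a' * qm) = pj - a' * pm := by linear_combination (-(pj - f * qj)) * h1 + (pm - f * qm) * h2
    have hnc : ∀ r : K, a' ≠ algebraMap K (RatFunc K) r := fun r hr => by
      rw [IsScalarTower.algebraMap_apply K K[X] (RatFunc K)] at hr
      rw [RatFunc.algebraMap_injective K hr] at hj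
      simp at hj
    have hden : qj - a' * qm ≠ 0 := by
      intro h
      have hqm : qm = 0 := by
        by_contra hqm
        refine hnc (f.denom.coeff j / f.denom.coeff m) ?_
        rw [map_div₀, eq_div_iff hqm]
        exact (sub_eq_zero.1 h).symm
      rw [hqm, mul_zero, sub_zero] at h1
      rw [h, mul_zero] at h3
      have hpm : pm ≠ 0 := fun hp => one_ne_zero (by rw [h1, hp, zero_mul])
      refine hnc (f.num.coeff j / f.num.coeff m) ?_
      rw [map_div₀, eq_div_iff hpm]
      exact (sub_eq_zero.1 h3.symm).symm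
    rw [← eq_div_iff hden] at h3
    rw [h3]
    have ha'' := IntermediateField.mem_adjoin_simple_self K a'
    refine div_mem (sub_mem (IntermediateField.algebraMap_mem _ _) (mul_mem ha'' (IntermediateField.algebraMap_mem _ _)))
      (sub_mem (IntermediateField.algebraMap_mem _ _) (mul_mem ha'' (IntermediateField.algebraMap_mem _ _)))
  set g := a - C (a.coeff 0) with hg
  have hgdeg : 0 < g.natDegree := by rwa [hg, natDegree_sub_C]
  refine ⟨g, hgdeg, by simp [hg], le_antisymm ?_ (Algebra.adjoin_le ?_)⟩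
  · rintro _ ⟨b, rfl⟩
    have hb : algebraMap K[X] (RatFunc K) (φ b) ∈ E := ⟨algebraMap A F b, hιA b⟩
    rw [hEf] at hb
    refine mem_adjoin_of_mem_field hgdeg ?_
    refine (IntermediateField.adjoin_simple_le_iff.2 ?_) hb
    have : algebraMap K[X] (RatFunc K) a ∈ K⟮algebraMap K[X] (RatFunc K) g⟯ := by
      rw [show a = g + C (a.coeff 0) by simp [hg], map_add, ← Polynomial.algebraMap_eq,
        ← IsScalarTower.algebraMap_apply]
      exact add_mem (IntermediateField.mem_adjoin_simple_self K _) (IntermediateField.algebraMap_mem _ _)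
    exact (IntermediateField.adjoin_simple_le_iff.2 this) hfmem
  · rw [Set.singleton_subset_iff]
    exact sub_mem ⟨P.coeff j, rfl⟩ ((φ.range).algebraMap_mem _)

end Groth.Agent.PolyLuroth6
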